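import Groth.Prelude.Def_PolLaw2
import Groth.Agent.PolLaw95.Laws
import Mathlib.RingTheory.Nullstellensatz
import Mathlib.RingTheory.Unramified.Finite
import Mathlib.RingTheory.UniqueFactorizationDomain.Basic
import Mathlib.RingTheory.Polynomial.UniqueFactorization
import Mathlib.FieldTheory.PurelyInseparable.Exponent
import Mathlib.FieldTheory.PurelyInseparable.Basic
import Mathlib.FieldTheory.SeparableClosure
import Mathlib.Algebra.MvPolynomial.Nilpotent
import Mathlib.Algebra.MvPolynomial.Funext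
import Mathlib.Algebra.MvPolynomial.NoZeroDivisors
import Mathlib.RingTheory.Unramified.Field

/-!
Multiplicative laws on a finite field extension.
-/

set_option linter.unusedSectionVars false
set_option autoImplicit false

universe u

open scoped TensorProduct
open MvPolynomial

namespace Groth.Agent.FieldLaw95

open Groth.Agent.PolLaw95

section Exponent

variable {k K : Type u} [Field k] [Field K] [Algebra k K]

theorem pow_gcd_mem (S : IntermediateField k K) (x : K) (m n : ℕ) (hm : x ^ m ∈ S) (hn : x ^ n ∈ S) :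
    x ^ Nat.gcd m n ∈ S := by
  rcases eq_or_ne x 0 with rfl | hx
  · rcases Nat.eq_zero_or_pos (Nat.gcd m n) with h | h
    · rw [h, pow_zero]; exact one_mem S
    · rw [zero_pow h.ne']; exact zero_mem S
  rw [← zpow_natCast, Nat.gcd_eq_gcd_ab, zpow_add₀ hx, zpow_mul, zpow_mul, zpow_natCast, zpow_natCast]
  exact mul_mem (zpow_mem hm _) (zpow_mem hn _)

/-- The exponent divides every exponent. -/
theorem dvd_of_forall_pow_mem (e : ℕ) (he : 0 < e) (hexp : ∀ x : K, x ^ e ∈ separableClosure k K)
    (hmin : ∀ n : ℕ, 0 < n → (∀ x : K, x ^ n ∈ separableClosure k K) → e ≤ n) (n : ℕ)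
    (hn : ∀ x : K, x ^ n ∈ separableClosure k K) : e ∣ n := by
  have h1 := hmin _ (Nat.gcd_pos_of_pos_left n he) fun x => pow_gcd_mem _ x e n (hexp x) (hn x)
  have h2 := Nat.le_antisymm (Nat.le_of_dvd he (Nat.gcd_dvd_left e n)) h1
  exact h2 ▸ Nat.gcd_dvd_right e n

/-- The exponent is a power of the exponential characteristic. -/
theorem exists_eq_expChar_pow [FiniteDimensional k K] (e : ℕ) (he : 0 < e)
    (hexp : ∀ x : K, x ^ e ∈ separableClosure k K)
    (hmin : ∀ n : ℕ, 0 < n → (∀ x : K, x ^ n ∈ separableClosure k K) → e ≤ n) :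
    ∃ j, e = ringExpChar k ^ j := by
  have hq : ringExpChar (separableClosure k K) = ringExpChar k :=
    haveI := expChar_of_injective_algebraMap (algebraMap k (separableClosure k K)).injective (ringExpChar k)
    ringExpChar.eq _ (ringExpChar k)
  obtain ⟨n, hn⟩ := (inferInstance : IsPurelyInseparable.HasExponent (separableClosure k K) K).has_exponent
  have hdvd : e ∣ ringExpChar k ^ n := dvd_of_forall_pow_mem e he hexp hmin _ fun x => by
    obtain ⟨y, hy⟩ := hn x
    rw [← hq, ← hy]
    exact y.2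
  rcases expChar_is_prime_or_one k (ringExpChar k) with hp | h1
  · obtain ⟨j, -, hj⟩ := (Nat.dvd_prime_pow hp).mp hdvd
    exact ⟨j, hj⟩
  · rw [h1, one_pow] at hdvd
    exact ⟨0, by rw [pow_zero]; exact Nat.dvd_one.mp hdvd⟩

end Exponent

section Shape

variable {k K : Type u} [Field k] [Field K] [Algebra k K] [FiniteDimensional k K]

local notation "Ω" => AlgebraicClosure K

/-- The scalar value of a law into the base field. -/
noncomputable def sval {d : ℕ} (F : PolLaw.MulLaw k K k d) (R : Type u) [CommRing R] [Algebra k R]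
    (z : R ⊗[k] K) : R := Algebra.TensorProduct.rid k R R (F.law.toFun' R z)

variable {d : ℕ} (F : PolLaw.MulLaw k K k d)

theorem sval_one (R : Type u) [CommRing R] [Algebra k R] : sval F R 1 = 1 := by
  rw [sval, (F.mult R).1, map_one]

theorem sval_mul (R : Type u) [CommRing R] [Algebra k R] (x y : R ⊗[k] K) :
    sval F R (x * y) = sval F R x * sval F R y := by
  rw [sval, (F.mult R).2, map_mul]; rfl

theorem sval_smul (R : Type u) [CommRing R] [Algebra k R] (c : R) (x : R ⊗[k] K) :
    sval F R (c • x) = c ^ d * sval F R x := by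
  rw [sval, F.homog, map_smul, smul_eq_mul]; rfl

theorem sval_map {R R' : Type u} [CommRing R] [Algebra k R] [CommRing R'] [Algebra k R'] (φ : R →ₐ[k] R')
    (z : R ⊗[k] K) : φ (sval F R z) = sval F R' (rT φ K z) := by
  rw [sval, sval, ← compat]
  generalize F.law.toFun' R z = w
  induction w using TensorProduct.induction_on with
  | zero => simp
  | tmul a c => simp [Algebra.smul_def]
  | add a c ha hc => simp [ha, hc]

/-- The point of `Ω ⊗ K` at an embedding. -/
noncomputable def pt (σ : K →ₐ[k] Ω) : Ω ⊗[k] K →ₐ[Ω] Ω :=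
  Algebra.TensorProduct.lift (AlgHom.id Ω Ω) σ fun _ _ => Commute.all _ _

theorem pt_tmul (σ : K →ₐ[k] Ω) (c : Ω) (x : K) : pt σ (c ⊗ₜ[k] x) = c * σ x := by simp [pt]

theorem exists_pt_eq_zero (z : Ω ⊗[k] K) (hz : ¬ IsUnit z) : ∃ σ : K →ₐ[k] Ω, pt σ z = 0 := by
  obtain ⟨m, hm, hzm⟩ := exists_max_ideal_of_mem_nonunits hz
  letI := Ideal.Quotient.field m
  have hbij : Function.Bijective (algebraMap Ω ((Ω ⊗[k] K) ⧸ m)) :=
    IsAlgClosed.algebraMap_bijective_of_isIntegral
  let ev : Ω ⊗[k] K →ₐ[Ω] Ω :=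
    (AlgEquiv.ofBijective (Algebra.ofId Ω ((Ω ⊗[k] K) ⧸ m)) hbij).symm.toAlgHom.comp (Ideal.Quotient.mkₐ Ω m)
  refine ⟨(ev.restrictScalars k).comp Algebra.TensorProduct.includeRight, ?_⟩
  have h : ∀ y, pt ((ev.restrictScalars k).comp Algebra.TensorProduct.includeRight) y = ev y := by
    intro y
    induction y using TensorProduct.induction_on with
    | zero => simp
    | tmul c x =>
      rw [pt_tmul, show c ⊗ₜ[k] x = c • ((1 : Ω) ⊗ₜ[k] x) by simp [TensorProduct.smul_tmul'], map_smul]
      rfl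
    | add a b ha hb => simp [ha, hb]
  rw [h]
  show (AlgEquiv.ofBijective _ hbij).symm (Ideal.Quotient.mk m z) = 0
  rw [Ideal.Quotient.eq_zero_iff_mem.mpr hzm, map_zero]

/-- A law is a monomial in the embeddings on geometric points. -/
theorem exists_exponents [Fintype (K →ₐ[k] Ω)] :
    ∃ a : (K →ₐ[k] Ω) → ℕ, ∀ z : Ω ⊗[k] K, sval F Ω z = ∏ σ, pt σ z ^ a σ := by
  classical
  let b := Module.finBasis k K
  let n := Module.finrank k K
  let U : MvPolynomial (Fin n) Ω ⊗[k] K := ∑ i, (X i : MvPolynomial (Fin n) Ω) ⊗ₜ[k] b i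
  let P : MvPolynomial (Fin n) Ω := sval F _ U
  have hU : ∀ v : Fin n → Ω, rT ((MvPolynomial.aeval v).restrictScalars k) K U = ∑ i, v i ⊗ₜ[k] b i := fun v => by
    simp [U]
  have hP : ∀ v : Fin n → Ω, eval v P = sval F Ω (∑ i, v i ⊗ₜ[k] b i) := fun v => by
    rw [← hU, ← sval_map, AlgHom.restrictScalars_apply, MvPolynomial.aeval_eq_eval]
  let ℓ : (K →ₐ[k] Ω) → MvPolynomial (Fin n) Ω := fun σ => ∑ i, MvPolynomial.C (σ (b i)) * X i
  have hℓ : ∀ σ v, eval v (ℓ σ) = pt σ (∑ i, v i ⊗ₜ[k] b i) := fun σ v => by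
    simp [ℓ, pt_tmul, mul_comm]
    rfl
  have hrep : ∀ z : Ω ⊗[k] K, ∃ v : Fin n → Ω, z = ∑ i, v i ⊗ₜ[k] b i := fun z => by
    refine ⟨fun i => (b.baseChange Ω).repr z i, ?_⟩
    conv_lhs => rw [← (b.baseChange Ω).sum_repr z]
    simp [TensorProduct.smul_tmul']
    rfl
  obtain ⟨v₁, hv₁⟩ := hrep 1
  have key : ∀ Q : MvPolynomial (Fin n) Ω, (∀ v, (∀ σ, eval v (ℓ σ) ≠ 0) → eval v Q ≠ 0) →
      ∃ (c : Ω) (a : (K →ₐ[k] Ω) → ℕ), Q = MvPolynomial.C c * ∏ σ, ℓ σ ^ a σ := by
    intro Q
    induction Q using UniqueFactorizationMonoid.induction_on_prime with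
    | h₁ => intro h; exact absurd (map_zero _) (h v₁ fun σ => by rw [hℓ, ← hv₁, map_one]; exact one_ne_zero)
    | h₂ x hx =>
      intro _
      obtain ⟨c, -, hc⟩ := MvPolynomial.isUnit_iff_eq_C_of_isReduced.mp hx
      exact ⟨c, 0, by simp [hc]⟩
    | h₃ Q p hQ hp ih =>
      intro h
      obtain ⟨c, a, hca⟩ := ih fun v hv h0 => h v hv (by rw [map_mul, h0, mul_zero])
      -- the prime divides one of the linear forms
      have hdvd : ∏ σ, ℓ σ ∈ (Ideal.span {p}).radical := by
        rw [← MvPolynomial.vanishingIdeal_zeroLocus_eq_radical (K := Ω)]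
        intro v hv
        have hp0 : aeval v p = 0 := hv p (Ideal.mem_span_singleton_self p)
        rw [map_prod]
        by_contra hne
        refine h v (fun σ => ?_) (by rw [map_mul, ← MvPolynomial.aeval_eq_eval, hp0, zero_mul])
        rw [← MvPolynomial.aeval_eq_eval]
        exact Finset.prod_ne_zero_iff.mp hne σ (Finset.mem_univ σ)
      rw [((Ideal.span_singleton_prime hp.ne_zero).mpr hp).isRadical.radical, Ideal.mem_span_singleton] at hdvd
      obtain ⟨σ, -, r, hr⟩ := (hp.dvd_finsetProd_iff _).mp hdvd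
      have hℓ0 : ℓ σ ≠ 0 := fun h0 => by
        have := hℓ σ v₁
        rw [h0, map_zero, ← hv₁, map_one] at this
        exact zero_ne_one this
      have hdeg : (ℓ σ).totalDegree ≤ 1 := by
        refine MvPolynomial.totalDegree_finsetSum_le fun i _ => ?_
        refine (MvPolynomial.totalDegree_mul _ _).trans ?_
        simp
      have hr0 : r ≠ 0 := fun h0 => hℓ0 (by rw [hr, h0, mul_zero])
      rw [hr, MvPolynomial.totalDegree_mul_of_isDomain hp.ne_zero hr0] at hdeg
      have hpd : p.totalDegree ≠ 0 := fun h0 => by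
        have hpC := MvPolynomial.totalDegree_eq_zero_iff_eq_C.mp h0
        refine hp.not_unit ?_
        rw [hpC]
        refine (IsUnit.map MvPolynomial.C (Ne.isUnit fun h00 => hp.ne_zero ?_))
        rw [hpC, h00, map_zero]
      obtain ⟨r₀, hr₀⟩ : ∃ r₀, r = MvPolynomial.C r₀ :=
        ⟨_, MvPolynomial.totalDegree_eq_zero_iff_eq_C.mp (by omega)⟩
      have hr00 : r₀ ≠ 0 := fun h0 => hr0 (by rw [hr₀, h0, map_zero])
      refine ⟨r₀⁻¹ * c, Function.update a σ (a σ + 1), ?_⟩
      have hprod : ∏ τ, ℓ τ ^ Function.update a σ (a σ + 1) τ = (∏ τ, ℓ τ ^ a τ) * ℓ σ := by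
        rw [Finset.prod_congr rfl (g := fun τ => ℓ τ ^ a τ * if τ = σ then ℓ σ else 1) fun τ _ => by
          rcases eq_or_ne τ σ with rfl | hne
          · simp [pow_succ]
          · simp [hne], Finset.prod_mul_distrib, Finset.prod_ite_eq', if_pos (Finset.mem_univ σ)]
      rw [hca, hprod, map_mul]
      rw [show p = MvPolynomial.C r₀⁻¹ * ℓ σ by
        rw [hr, hr₀, mul_comm p, ← mul_assoc, ← map_mul, inv_mul_cancel₀ hr00, map_one, one_mul]]
      ring
  obtain ⟨c, a, hca⟩ := key P fun v hv => by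
    rw [hP]
    have hu : IsUnit (∑ i, v i ⊗ₜ[k] b i : Ω ⊗[k] K) := by
      by_contra hne
      obtain ⟨σ, hσ⟩ := exists_pt_eq_zero _ hne
      exact hv σ (by rw [hℓ, hσ])
    obtain ⟨w, hw⟩ := hu.exists_left_inv
    intro h0
    have := sval_mul F Ω w (∑ i, v i ⊗ₜ[k] b i)
    rw [hw, sval_one, h0, mul_zero] at this
    exact one_ne_zero this
  have hval : ∀ z : Ω ⊗[k] K, sval F Ω z = c * ∏ σ, pt σ z ^ a σ := fun z => by
    obtain ⟨v, rfl⟩ := hrep z
    rw [← hP, hca, map_mul, eval_C, map_prod]
    simp [hℓ]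
  have hc : c = 1 := by simpa [sval_one] using (hval 1).symm
  exact ⟨a, fun z => by rw [hval, hc, one_mul]⟩

variable (e : ℕ) (he : 0 < e) (hexp : ∀ x : K, x ^ e ∈ separableClosure k K)
    (hmin : ∀ n : ℕ, 0 < n → (∀ x : K, x ^ n ∈ separableClosure k K) → e ≤ n)

include he hexp hmin in
/-- Embeddings are determined on the separable closure. -/
theorem restrict_injective (σ τ : K →ₐ[k] Ω) (h : ∀ s : separableClosure k K, σ s = τ s) : σ = τ := by
  obtain ⟨j, rfl⟩ := exists_eq_expChar_pow e he hexp hmin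
  haveI : ExpChar Ω (ringExpChar k) := expChar_of_injective_algebraMap (algebraMap k Ω).injective _
  refine AlgHom.ext fun x => iterateFrobenius_inj Ω (ringExpChar k) j ?_
  simp only [iterateFrobenius_def, ← map_pow]
  exact h ⟨_, hexp x⟩

include he hexp hmin in
/-- The shape of a law. -/
theorem law_shape [Fintype (K →ₐ[k] Ω)] :
    ∃ m : ℕ, d = Fintype.card (K →ₐ[k] Ω) * m ∧ e ∣ m ∧ ∀ z : Ω ⊗[k] K, sval F Ω z = ∏ σ, pt σ z ^ m := by
  classical
  obtain ⟨a, ha⟩ := exists_exponents F
  let S := separableClosure k K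
  haveI : Algebra.FormallyUnramified k S := Algebra.FormallyUnramified.of_isSeparable k S
  let w : S ⊗[k] K := Algebra.TensorProduct.map (AlgHom.id S S) S.val (Algebra.FormallyUnramified.elem k S)
  let ι : (K →ₐ[k] Ω) → (S →ₐ[k] Ω) := fun σ => σ.comp S.val
  have hw : ∀ σ τ : K →ₐ[k] Ω, pt τ (rT (ι σ) K w) = if τ = σ then 1 else 0 := by
    intro σ τ
    have e1 : ∀ y : S ⊗[k] S, pt τ (rT (ι σ) K (Algebra.TensorProduct.map (AlgHom.id S S) S.val y)) =
        Algebra.TensorProduct.lift (ι σ) (ι τ) (fun _ _ => Commute.all _ _) y := by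
      intro y
      induction y using TensorProduct.induction_on with
      | zero => simp
      | tmul p q => simp [pt_tmul, ι]
      | add p q hp hq => simp [hp, hq]
    rw [e1]
    split_ifs with hτ
    · subst hτ
      have e2 : (Algebra.TensorProduct.lift (ι τ) (ι τ) fun _ _ => Commute.all _ _) =
          (ι τ).comp (Algebra.TensorProduct.lmul' k (S := S)) := by
        refine Algebra.TensorProduct.ext' fun p q => ?_
        simp
      rw [e2, AlgHom.comp_apply]
      exact (congrArg (ι τ) Algebra.FormallyUnramified.lmul_elem).trans (map_one _)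
    · by_contra hne
      refine hτ (restrict_injective e he hexp hmin τ σ fun s => ?_)
      have h := congrArg (Algebra.TensorProduct.lift (ι σ) (ι τ) fun _ _ => Commute.all _ _)
        (Algebra.FormallyUnramified.one_tmul_mul_elem (R := k) s)
      rw [map_mul, map_mul, Algebra.TensorProduct.lift_tmul, Algebra.TensorProduct.lift_tmul, map_one, map_one,
        one_mul, mul_one] at h
      exact mul_right_cancel₀ hne h
  -- the polynomial computing the exponents
  let Y : Polynomial S ⊗[k] K :=
    (Polynomial.X : Polynomial S) • rT (IsScalarTower.toAlgHom k S (Polynomial S)) K w -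
      rT (IsScalarTower.toAlgHom k S (Polynomial S)) K w + 1
  let E : Polynomial S := sval F _ Y
  have hpow : ∀ (σ : K →ₐ[k] Ω) (x : Ω), ∏ τ, (if τ = σ then x else (1 : Ω)) ^ a τ = x ^ a σ := fun σ x => by
    rw [Finset.prod_eq_single σ (fun τ _ hτ => by simp [hτ]) (by simp), if_pos rfl]
  have hE : ∀ σ, E.map (ι σ).toRingHom = Polynomial.X ^ a σ := by
    intro σ
    refine Polynomial.funext fun c => ?_
    rw [Polynomial.eval_pow, Polynomial.eval_X, Polynomial.eval_map]
    let φ : Polynomial S →ₐ[k] Ω :=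
      { Polynomial.eval₂RingHom (ι σ).toRingHom c with
        commutes' := fun r => by
          show Polynomial.eval₂ (ι σ).toRingHom c (algebraMap k (Polynomial S) r) = _
          rw [IsScalarTower.algebraMap_apply k S (Polynomial S), Polynomial.algebraMap_eq, Polynomial.eval₂_C]
          exact (ι σ).commutes r }
    show φ E = _
    rw [sval_map, ha, ← hpow σ c]
    refine Finset.prod_congr rfl fun τ _ => ?_
    congr 1
    have hφ : rT φ K Y = c • rT (ι σ) K w - rT (ι σ) K w + 1 := by
      have hs : ∀ u : Polynomial S ⊗[k] K,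
          rT φ K ((Polynomial.X : Polynomial S) • u) = c • rT φ K u := fun u => by
        induction u using TensorProduct.induction_on with
        | zero => simp
        | tmul p q => simp [TensorProduct.smul_tmul', φ, mul_comm]
        | add p q hp hq => simp [smul_add, hp, hq]
      have hc : φ.comp (IsScalarTower.toAlgHom k S (Polynomial S)) = ι σ := AlgHom.ext fun s => by
        show Polynomial.eval₂ (ι σ).toRingHom c (algebraMap S (Polynomial S) s) = _
        rw [Polynomial.algebraMap_eq, Polynomial.eval₂_C]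
        rfl
      simp only [Y, map_add, map_sub, hs, rT_rT, hc]
      rw [show rT φ K (1 : Polynomial S ⊗[k] K) = 1 by rw [rT_eq_rTA, map_one]]
    rw [hφ, map_add, map_sub, map_smul, map_one, hw]
    split_ifs <;> simp
  have hdeg : ∀ σ, a σ = E.natDegree := fun σ => by
    rw [← Polynomial.natDegree_map (ι σ).toRingHom, hE, Polynomial.natDegree_X_pow]
  refine ⟨E.natDegree, ?_, dvd_of_forall_pow_mem e he hexp hmin _ fun x => ?_, fun z => ?_⟩
  · -- degree
    have h : ∀ c : Ω, c ^ d = c ^ (Fintype.card (K →ₐ[k] Ω) * E.natDegree) := fun c => by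
      have h1 := sval_smul F Ω c 1
      rw [sval_one, mul_one, ha] at h1
      rw [← h1, mul_comm, pow_mul, ← Finset.card_univ, ← Finset.prod_const]
      exact Finset.prod_congr rfl fun τ _ => by simp [hdeg]
    have := congrArg Polynomial.natDegree (Polynomial.funext (p := (Polynomial.X : Polynomial Ω) ^ d)
      (q := Polynomial.X ^ (Fintype.card (K →ₐ[k] Ω) * E.natDegree)) fun c => by simpa using h c)
    simpa using this
  · -- powers land in the separable closure
    let σ : K →ₐ[k] Ω := IsScalarTower.toAlgHom k K Ω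
    let y : S ⊗[k] K := w * ((1 : S) ⊗ₜ[k] x) - w + 1
    have h : ι σ (sval F S y) = σ x ^ E.natDegree := by
      rw [sval_map, ha, ← hdeg σ, ← hpow σ (σ x)]
      refine Finset.prod_congr rfl fun τ _ => ?_
      congr 1
      simp only [y, rT_eq_rTA, map_add, map_sub, map_mul, map_one]
      simp only [← rT_eq_rTA, hw, rT_tmul, map_one, pt_tmul, one_mul]
      split_ifs with hτ <;> simp [hτ]
    rw [← map_pow] at h
    exact (σ.toRingHom.injective h) ▸ (sval F S y).2
  · rw [ha]
    exact Finset.prod_congr rfl fun τ _ => by rw [hdeg]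

include he hexp hmin in
theorem law_unique (F' : PolLaw.MulLaw k K k d) : F.law = F'.law := by
  classical
  haveI : Fintype (K →ₐ[k] Ω) := minpoly.AlgHom.fintype k K Ω
  obtain ⟨m, hm, -, hv⟩ := law_shape F e he hexp hmin
  obtain ⟨m', hm', -, hv'⟩ := law_shape F' e he hexp hmin
  have hcard : 0 < Fintype.card (K →ₐ[k] Ω) := Fintype.card_pos_iff.mpr ⟨IsScalarTower.toAlgHom k K Ω⟩
  have hmm : m = m' := Nat.eq_of_mul_eq_mul_left hcard (hm.symm.trans hm')
  refine law_ext fun n z => (Algebra.TensorProduct.rid k (MvPolynomial (Fin n) k) (MvPolynomial (Fin n) k)).injective ?_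
  show sval F _ z = sval F' _ z
  refine MvPolynomial.map_injective (algebraMap k Ω) (algebraMap k Ω).injective (MvPolynomial.funext fun v => ?_)
  rw [MvPolynomial.eval_map]
  show MvPolynomial.aeval v (sval F _ z) = MvPolynomial.eval v (MvPolynomial.map (algebraMap k Ω) (sval F' _ z))
  rw [MvPolynomial.eval_map]
  show MvPolynomial.aeval v (sval F _ z) = MvPolynomial.aeval v (sval F' _ z)
  rw [sval_map, sval_map, hv, hv', hmm]

/-- Powers of a law into the base. -/
noncomputable def powMul {A B C : Type u} [CommRing A] [CommRing B] [Algebra A B] [CommRing C] [Algebra A C] {d : ℕ}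
    (F : PolLaw.MulLaw A B C d) (m : ℕ) : PolLaw.MulLaw A B C (d * m) where
  law := (PolLaw.powLaw m).comp F.law
  homog S _ _ s x := by
    show F.law.toFun' S (s • x) ^ m = s ^ (d * m) • F.law.toFun' S x ^ m
    rw [F.homog, smul_pow, ← pow_mul]
  mult S _ _ := ⟨by show F.law.toFun' S 1 ^ m = 1; rw [(F.mult S).1, one_pow],
    fun x y => by show F.law.toFun' S (x * y) ^ m = _; rw [(F.mult S).2, mul_pow]; rfl⟩

/-- Composition of multiplicative laws. -/
noncomputable def compMul {A B C D : Type u} [CommRing A] [CommRing B] [Algebra A B] [CommRing C] [Algebra A C]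
    [CommRing D] [Algebra A D] {d d' : ℕ} (G : PolLaw.MulLaw A C D d') (F : PolLaw.MulLaw A B C d) :
    PolLaw.MulLaw A B D (d * d') where
  law := G.law.comp F.law
  homog S _ _ s x := by
    show G.law.toFun' S (F.law.toFun' S (s • x)) = s ^ (d * d') • G.law.toFun' S (F.law.toFun' S x)
    rw [F.homog, G.homog, ← pow_mul]
  mult S _ _ := ⟨by show G.law.toFun' S (F.law.toFun' S 1) = 1; rw [(F.mult S).1, (G.mult S).1],
    fun x y => by
      show G.law.toFun' S (F.law.toFun' S (x * y)) = G.law.toFun' S (F.law.toFun' S x) * G.law.toFun' S (F.law.toFun' S y)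
      rw [(F.mult S).2, (G.mult S).2]⟩

include he hexp hmin in
theorem law_exists (h : Field.finSepDegree k K * e ∣ d) : Nonempty (PolLaw.MulLaw k K k d) := by
  classical
  obtain ⟨m, hm⟩ := h
  let S := separableClosure k K
  obtain ⟨j, hj⟩ := exists_eq_expChar_pow e he hexp hmin
  have hspan : PolLaw95.coefSpan (PolLaw.MulLaw.pow k K e).law ≤ S.toSubalgebra.toSubmodule := by
    refine Submodule.span_le.mpr ?_
    rintro _ ⟨n, b, α, rfl⟩
    show coefL ((∑ i, (MvPolynomial.X i : MvPolynomial (Fin n) k) ⊗ₜ[k] b i) ^ e) α ∈ S.toSubalgebra.toSubmodule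
    haveI : ExpChar (MvPolynomial (Fin n) k ⊗[k] K) (ringExpChar k) :=
      expChar_of_injective_algebraMap (fun a c h => (algebraMap k K).injective (by
        have := congrArg (Algebra.TensorProduct.lift ((Algebra.ofId k K).comp (MvPolynomial.aeval (0 : Fin n → k)))
          (AlgHom.id k K) fun _ _ => Commute.all _ _) h
        rwa [AlgHom.commutes, AlgHom.commutes] at this)) _
    rw [hj, sum_pow_char_pow, map_sum, Finsupp.finsetSum_apply]
    refine sum_mem fun i _ => ?_
    rw [Algebra.TensorProduct.tmul_pow, coefL_tmul, ← hj]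
    exact Submodule.smul_mem _ _ (hexp (b i))
  obtain ⟨G, -⟩ := PolLaw95.exists_restrict_mulLaw (PolLaw.MulLaw.pow k K e) S.toSubalgebra hspan
  have hd : Module.finrank k S.toSubalgebra = Field.finSepDegree k K := by
    rw [Field.finSepDegree_eq]
    rfl
  let N : PolLaw.MulLaw k S.toSubalgebra k (Field.finSepDegree k K) := PolLaw.detLaw (M := S.toSubalgebra) _ hd
  have hdeg : e * Field.finSepDegree k K * m = d := by rw [hm]; ring
  exact ⟨hdeg ▸ powMul (compMul N G) m⟩

include he hexp hmin in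
theorem exists_law_iff : Nonempty (PolLaw.MulLaw k K k d) ↔ Field.finSepDegree k K * e ∣ d := by
  classical
  refine ⟨fun ⟨F⟩ => ?_, law_exists e he hexp hmin⟩
  haveI : Fintype (K →ₐ[k] Ω) := minpoly.AlgHom.fintype k K Ω
  obtain ⟨m, hm, hem, -⟩ := law_shape F e he hexp hmin
  rw [hm, Field.finSepDegree_eq_of_isAlgClosed k K Ω, Nat.card_eq_fintype_card]
  exact Nat.mul_dvd_mul_left _ hem

end Shape

end Groth.Agent.FieldLaw95

namespace Groth.Agent.FieldLaw95

open Groth.Agent.PolLaw95

/-- A law satisfying the identities over test rings is a multiplicative law. -/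
theorem exists_mulLaw_of_rings {k K : Type u} [CommRing k] [CommRing K] [Algebra k K] {d : ℕ} (F : K →ₚₗ[k] k)
    (h1 : ∀ (S : Type u) [CommRing S] [Algebra k S], F.toFun' S 1 = 1 ∧
      ∀ x y : S ⊗[k] K, F.toFun' S (x * y) = F.toFun' S x * F.toFun' S y)
    (h2 : ∀ (S : Type u) [CommRing S] [Algebra k S] (a : S) (z : S ⊗[k] K),
      F.toFun' S (a • z) = a ^ d • F.toFun' S z) : ∃ G : PolLaw.MulLaw k K k d, G.law = F := by
  refine ⟨⟨F, fun S _ _ a z => ?_, fun S _ _ => mult_of_poly F (fun n => (h1 _).1) (fun n => (h1 _).2) S⟩, rfl⟩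
  letI : CommRing S := { Algebra.semiringToRing k (A := S) with mul_comm := mul_comm }
  exact h2 S a z

end Groth.Agent.FieldLaw95
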